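import Mathlib
import Cfsg.Agent.Lib.Comput.Check3
import Cfsg.Agent.Lib.J2.P.Data

/-! generated by tools/cgt -/

set_option autoImplicit false
set_option maxRecDepth 100000
set_option Elab.async false

namespace CfsgLib.J2.P

open CfsgLib.Comput

def R5_0 : RepC := ⟨21, 1, [],
  []⟩
def S5_0 : GenC := ⟨21, [],
  [(0, 0, 0, 1, 0), (0, 1, 0, 0, 0)], 0⟩
def L5 : Level := ⟨0x0, 0x100000, [], 1, 40, 0, 2, [R5_0], [S5_0]⟩
def X5 : Ext := []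

def R4_0 : RepC := ⟨20, 1, [(21, 21)],
  [(3, 1, [1])]⟩
def S4_0 : GenC := ⟨20, [(21, 21)],
  [(0, 0, 0, 1, 0), (0, 1, 0, 0, 21)], 0⟩
def L4 : Level := ⟨0x100000, 0x1c0000, [21], 2, 17, 0, 2, [R4_0], [S4_0]⟩
def X4 : Ext := [(18, 20, 0)]

def R3_0 : RepC := ⟨0x1110, 1, [(20, 0x1415)],
  [(9, 3, [1])]⟩
def R3_1 : RepC := ⟨15, 2, [(21, 21)],
  [(3, 1, [1])]⟩
def R3_2 : RepC := ⟨16, 2, [(21, 21)],
  [(3, 1, [1])]⟩
def S3_0 : GenC := ⟨16, [(21, 21)],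
  [(0, 0, 0, 3, 0), (0, 2, 0, 0, 0), (0, 3, 0, 2, 21), (20, 3, 20, 2, 0x1415), (0, 1, 20, 3, 0), (20, 2, 0, 1, 0x1415)], 0⟩
def L3 : Level := ⟨0x1c0000, 0x1fc000, [20, 21], 4, 11, 0, 6, [R3_0, R3_1, R3_2], [S3_0]⟩
def X3 : Ext := [(14, 16, 0), (16, 0, 0xf14), (17, 17, 0)]

def R2_0 : RepC := ⟨0x9140a, 1, [(16, 0x1014), (0x1210, 0xf15)],
  [(34, 4, [1, 2])]⟩
def R2_1 : RepC := ⟨12, 6, [(20, 0x111014)],
  [(24, 3, [1])]⟩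
def S2_0 : GenC := ⟨10, [(0x111014, 0x1110)],
  [(0, 0, 15, 2, 0), (16, 2, 0, 0, 0x1015), (15, 2, 18, 2, 0x1210), (0, 2, 0x1110, 2, 18), (18, 2, 0, 1, 0x1215), (0, 1, 0x1210, 2, 0)], 1⟩
def L2 : Level := ⟨0x1fc000, 0x1fff00, [16, 20, 21], 24, 1, 0, 8, [R2_0, R2_1], [S2_0]⟩
def X2 : Ext := [(8, 10, 0), (10, 0, 0x90f), (11, 11, 0), (12, 0, 0xa1014), (13, 13, 0)]

def R1_0 : RepC := ⟨0x51406, 1, [(0xc121014, 0x110915), (0x915, 9), (0x110a12, 0x110a10)],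
  [(141, 4, [1, 2, 3]), (1, 2, [1])]⟩
def R1_1 : RepC := ⟨8, 8, [(0x1215, 0xc11101415), (20, 0x111015)],
  [(27, 4, [1, 2])]⟩
def S1_0 : GenC := ⟨6, [(0xc14, 0xc0f1415), (0x111015, 0x9140a)],
  [(0, 0, 9, 2, 0), (10, 2, 0, 0, 0x140a111015), (0, 2, 12, 2, 9), (0x140a, 2, 0, 1, 0x140a), (0, 1, 0x110a, 2, 0x110a1014)], 3⟩
def L1 : Level := ⟨0x1fff00, 0x1ffff0, [10, 16, 20, 21], 192, 26, 0, 10, [R1_0, R1_1], [S1_0]⟩
def X1 : Ext := [(4, 6, 0), (6, 0, 0x509), (7, 7, 0)]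

def R0_0 : RepC := ⟨4, 10, [(0x91210, 0xa111015), (0xa0f1415, 0xa0f1415), (0xa1215, 0xa1215)],
  [(90, 4, [1, 2, 3]), (23, 2, [1])]⟩
def R0_1 : RepC := ⟨0x402, 32, [(0x5121415, 0x140609140a0f), (0x121415, 0x110a121415)],
  [(39, 7, [1, 2])]⟩
def R0_2 : RepC := ⟨0x403, 32, [(0x60c15, 0x80c14), (0x80c1110, 0xf0611091214)],
  [(291, 5, [1, 2])]⟩
def R0_3 : RepC := ⟨0x40804, 80, [(0x9140a101415, 0x110912), (0x90f15, 0xa1015)],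
  [(84, 4, [1, 2])]⟩
def R0_4 : RepC := ⟨2, 160, [(0x1015, 0x1015), (0x11091014, 0x11091014)],
  [(19, 3, [1, 2])]⟩
def S0_0 : GenC := ⟨4, [(0x140a14, 0x9140a12), (0xa0f, 0x91214), (0x1015, 0xc0f1415)],
  [(0, 0, 0, 1, 0), (0, 5, 0, 2, 0), (0x61307, 5, 0, 3, 0x514060911101415), (0, 1, 0, 0, 0), (0, 2, 0, 5, 0), (0, 3, 0x61307, 5, 0x51406140a111014), (7, 2, 0x70e, 3, 0x60a1215), (6, 3, 0x714, 2, 0x1406110a111015), (8, 1, 0, 4, 0), (8, 5, 0x1007, 4, 0x50c101415), (7, 5, 0x1007, 5, 0x5140612), (0, 4, 8, 1, 0), (5, 4, 0x1105, 5, 0x6110a15), (0x70606, 4, 0x70606, 4, 0x9140a1110), (0x51406, 1, 0x51406, 1, 0x5140609140a111015)], 4⟩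
def L0 : Level := ⟨0x1ffff0, 0x1fffff, [6, 10, 16, 20, 21], 1920, 0, 0, 315, [R0_0, R0_1, R0_2, R0_3, R0_4], [S0_0]⟩
def X0 : Ext := [(0, 0, 21), (1, 0, 0x5040706040604050c101415), (2, 0, 0x1502080411060a)]

def top : List ℕ := [1, 2, 3, 4]
def gs : List ℕ := [4, 6, 10, 16, 20, 21]
def XD : Ext := [(4, 0, 0x201040102030402040304010204010403), (5, 5, 0), (6, 0, 0x4030104010201030201040302040204), (7, 7, 0), (8, 0, 0x607), (9, 9, 0), (10, 0, 0x50707070606), (11, 11, 0), (12, 0, 0x505070507050705), (13, 13, 0), (14, 0, 0xa0a0c0a), (15, 15, 0), (16, 0, 0x90e090b09), (17, 17, 0), (18, 0, 0xf12101210), (19, 19, 0), (20, 0, 0x1414)]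
def MX : Level.MaxC := [[(0, [0])], [(0, [0x513, 19, 0x12060c111015])], [(0x511, [0xc07060b, 21, 0x511091110])], [(0x51306, [10, 0x514060c1210])], [(0x513, [0x60906, 0x12060c])]]
def NC : NclD := ⟨0x214, 7, [(0, [0, 0x1415]), (1, [0x50112, 0x3140205140611090f]), (2, [0x805, 0xc060205140a0f]), (3, [0x40b05, 0x802120611091110])]⟩

/-- all the equations of the certificate -/
structure Eqs {G : Type*} [Group G] (g : ℕ → G) : Prop where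
  l5 : AllHold g L5.eqns
  x5 : AllHold g X5.eqns
  l4 : AllHold g L4.eqns
  x4 : AllHold g X4.eqns
  l3 : AllHold g L3.eqns
  x3 : AllHold g X3.eqns
  l2 : AllHold g L2.eqns
  x2 : AllHold g X2.eqns
  l1 : AllHold g L1.eqns
  x1 : AllHold g X1.eqns
  l0 : AllHold g L0.eqns
  x0 : AllHold g X0.eqns
  xd : AllHold g XD.eqns
  mx : AllHold g (L0.maxEqns MX)
  nc : AllHold g NC.eqns

end CfsgLib.J2.P
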